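import Groth.Agent.Henz21.GabberClopen.ProjLift
import Groth.Agent.Approx60.ChowMain
import Mathlib.AlgebraicGeometry.PullbackCarrier

/-!
Proper clopen parts of special fibres over henselian pairs lift.
-/

set_option autoImplicit false
set_option linter.style.haveILetI false

universe u

open CategoryTheory Limits AlgebraicGeometry TopologicalSpace

noncomputable section

namespace Groth.Agent.Henz21.GabberClopen

/-- A nonempty closed subset of the spectrum meets `V(I)` for `I` in the Jacobson radical. -/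
theorem exists_mem_of_isClosed {A : Type u} [CommRing A] {I : Ideal A} (hI : I ≤ Ideal.jacobson ⊥)
    {C : Set (Spec (CommRingCat.of A))} (hC : IsClosed C) (hne : C.Nonempty) :
    ∃ s ∈ C, I ≤ s.asIdeal := by
  obtain ⟨p, hp⟩ := hne
  obtain ⟨M, hM, hpM⟩ := Ideal.exists_le_maximal p.asIdeal p.isPrime.ne_top
  have hmem : (⟨M, hM.isPrime⟩ : PrimeSpectrum A) ∈ C :=
    ((PrimeSpectrum.le_iff_specializes (p : PrimeSpectrum A) ⟨M, hM.isPrime⟩).1 hpM).mem_closed hC hp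
  exact ⟨⟨M, hM.isPrime⟩, hmem, hI.trans (sInf_le ⟨bot_le, hM⟩)⟩

set_option maxHeartbeats 1000000 in
/-- Proper clopen parts of the special fibre lift. -/
theorem exists_clopen_lift_of_proper_part {A : Type u} [CommRing A] (I : Ideal A) [HenselianRing A I]
    {X : Scheme.{u}} (f : X ⟶ Spec (CommRingCat.of A)) [IsSeparated f] [LocallyOfFiniteType f]
    [QuasiCompact f] {Y₁ : Scheme.{u}} (ι₁ : Y₁ ⟶ X) (hY : IsProper (ι₁ ≫ f)) {N : Set X}
    (hN : IsClosed N) (hdisj : Disjoint (Set.range ι₁) N)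
    (hun : Set.range ι₁ ∪ N = {x | I ≤ (f x).asIdeal}) :
    ∃ W : X.Opens, IsClosed (W : Set X) ∧ IsProper (W.ι ≫ f) ∧
      Set.range ι₁ ⊆ W ∧ Disjoint N W := by
  obtain ⟨n, X', π, j, hj, hjp, hπ, hπs⟩ := Approx60.Chow.chow_qcqs f
  haveI hpP := Approx60.Segre.isProper_toBase n (Spec (CommRingCat.of A))
  let P := CohB1.ProjSpaceOver n (Spec (CommRingCat.of A))
  let p := CohB1.ProjSpaceOver.toBase n (Spec (CommRingCat.of A))
  have hjpx : ∀ x, p (j x) = f (π x) := fun x => by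
    rw [← Scheme.Hom.comp_apply, hjp]; rfl
  let VP : Set P := {z | I ≤ (p z).asIdeal}
  have hVP : IsClosed VP := by
    have h := (PrimeSpectrum.isClosed_zeroLocus (I : Set A)).preimage p.continuous
    exact h
  -- the part over `Y₁`
  let y' := pullback.snd ι₁ π
  have hy'r : Set.range y' = π ⁻¹' Set.range ι₁ := Scheme.Pullback.range_snd _ _
  have hY' : IsClosed (j '' (π ⁻¹' Set.range ι₁)) := by
    haveI : IsProper (pullback.fst ι₁ π) := inferInstance
    haveI : IsProper ((y' ≫ j) ≫ p) := by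
      rw [Category.assoc, hjp, ← Category.assoc, ← pullback.condition, Category.assoc]
      exact MorphismProperty.comp_mem _ _ _ inferInstance hY
    haveI : IsProper (y' ≫ j) := IsProper.of_comp (y' ≫ j) p
    have h := (y' ≫ j).isClosedMap _ isClosed_univ
    rw [Set.image_univ] at h
    rw [← hy'r, ← Set.range_comp]
    exact h
  -- the closure of the image
  let Z : Set P := closure (Set.range j)
  have hZ : IsClosed Z := isClosed_closure
  obtain ⟨U₀, hU₀, hUZ⟩ : ∃ U₀ : Set P, IsOpen U₀ ∧ Set.range j = U₀ ∩ Z :=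
    ⟨coborder (Set.range j), j.isLocallyClosed_range.isOpen_coborder, coborder_inter_closure.symm⟩
  obtain ⟨C, hC, hCN⟩ := j.isEmbedding.isInducing.isClosed_iff.1 (hN.preimage π.continuous)
  let Pset : Set P := j '' (π ⁻¹' Set.range ι₁)
  let Qset : Set P := Z ∩ VP ∩ (U₀ᶜ ∪ C)
  have hjU : ∀ x, j x ∈ U₀ := fun x => (hUZ.le ⟨x, rfl⟩).1
  have hPQ : Disjoint Pset Qset := by
    rw [Set.disjoint_left]
    rintro _ ⟨x, hx, rfl⟩ ⟨-, h | h⟩
    · exact h (hjU x)
    · exact Set.disjoint_left.1 hdisj hx (hCN.le h)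
  have hun' : Pset ∪ Qset = Z ∩ VP := by
    refine subset_antisymm (Set.union_subset ?_ Set.inter_subset_left) fun z hz => ?_
    · rintro _ ⟨x, hx, rfl⟩
      refine ⟨subset_closure ⟨x, rfl⟩, ?_⟩
      show I ≤ (p (j x)).asIdeal
      rw [hjpx]
      exact hun.le (Or.inl hx)
    · by_cases hzU : z ∈ U₀
      · obtain ⟨x, rfl⟩ := hUZ.ge ⟨hzU, hz.1⟩
        have hx : I ≤ (f (π x)).asIdeal := by rw [← hjpx]; exact hz.2
        rcases hun.ge hx with h | h
        · exact Or.inl ⟨x, h, rfl⟩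
        · exact Or.inr ⟨hz, Or.inr (hCN.ge h)⟩
      · exact Or.inr ⟨hz, Or.inl hzU⟩
  -- lift in the closure
  let J := Scheme.IdealSheafData.vanishingIdeal (⟨Z, hZ⟩ : TopologicalSpace.Closeds P)
  have hr : Set.range J.subschemeι = Z := by
    rw [Scheme.IdealSheafData.range_subschemeι, Scheme.IdealSheafData.coe_support_vanishingIdeal]
    rfl
  let ιZ := J.subschemeι
  haveI : IsProper (ιZ ≫ p) := inferInstance
  obtain ⟨W, hW, hPW, hQW⟩ := exists_clopen_lift_proper I (ιZ ≫ p) (hY'.preimage ιZ.continuous)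
    (((hZ.inter hVP).inter (hU₀.isClosed_compl.union hC)).preimage ιZ.continuous) (hPQ.preimage ιZ) (by
      ext x
      rw [← Set.preimage_union, hun']
      show ιZ x ∈ Z ∧ I ≤ _ ↔ I ≤ _
      rw [Scheme.Hom.comp_apply]
      exact and_iff_right (hr.le ⟨x, rfl⟩))
  let W₁ : Set P := ιZ '' W
  let W₂ : Set P := ιZ '' Wᶜ
  have hW₁ : IsClosed W₁ := ιZ.isClosedEmbedding.isClosedMap _ hW.1
  have hW₂ : IsClosed W₂ := ιZ.isClosedEmbedding.isClosedMap _ hW.compl.1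
  have hjac : I ≤ Ideal.jacobson ⊥ := HenselianRing.jac
  have hPW₁ : Pset ⊆ W₁ := fun z hz => by
    obtain ⟨x, rfl⟩ := hr.ge (hun'.le (Or.inl hz)).1
    exact ⟨x, hPW hz, rfl⟩
  have hQW₁ : ∀ z ∈ Qset, z ∉ W₁ := by
    rintro z hz ⟨x, hx, rfl⟩
    exact Set.disjoint_left.1 hQW hz hx
  have hW₁U : W₁ ⊆ U₀ := by
    intro z hz
    by_contra hzU
    obtain ⟨s, ⟨w, ⟨hw, hwU⟩, rfl⟩, hs⟩ := exists_mem_of_isClosed hjac
      (p.isClosedMap _ (hW₁.inter hU₀.isClosed_compl)) ⟨p z, z, ⟨hz, hzU⟩, rfl⟩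
    obtain ⟨x, hx, rfl⟩ := hw
    exact hQW₁ (ιZ x) ⟨⟨hr.le ⟨x, rfl⟩, hs⟩, Or.inl hwU⟩ ⟨x, hx, rfl⟩
  have hW₁j : W₁ ⊆ Set.range j := by
    rintro _ ⟨x, hx, rfl⟩
    exact hUZ.ge ⟨hW₁U ⟨x, hx, rfl⟩, hr.le ⟨x, rfl⟩⟩
  let W' : X'.Opens := ⟨j ⁻¹' W₁, by
    have h : j ⁻¹' W₁ = (j ⁻¹' W₂)ᶜ := by
      ext x
      obtain ⟨y, hy⟩ := hr.ge (subset_closure ⟨x, rfl⟩ : j x ∈ Z)
      show j x ∈ ιZ '' W ↔ ¬ j x ∈ ιZ '' Wᶜ
      rw [← hy, ιZ.isClosedEmbedding.injective.mem_set_image, ιZ.isClosedEmbedding.injective.mem_set_image]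
      exact not_not.symm
    rw [h]
    exact (hW₂.preimage j.continuous).isOpen_compl⟩
  have hW'c : IsClosed (W' : Set X') := hW₁.preimage j.continuous
  haveI : IsClosedImmersion (W'.ι ≫ j) := IsClosedImmersion.of_isPreimmersion _ (by
    rw [Scheme.Hom.comp_base, TopCat.coe_comp, Set.range_comp, Scheme.Opens.range_ι]
    show IsClosed (j '' (j ⁻¹' W₁))
    rw [Set.image_preimage_eq_inter_range, Set.inter_eq_left.2 hW₁j]
    exact hW₁)
  let q := W'.ι ≫ π
  haveI hqf : IsProper (q ≫ f) := by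
    rw [Category.assoc, ← hjp, ← Category.assoc]
    infer_instance
  have hZ1 : IsClosed (π '' (W' : Set X')) := π.isClosedMap _ hW'c
  have hZ2 : IsClosed (π '' (W' : Set X')ᶜ) := π.isClosedMap _ W'.isOpen.isClosed_compl
  have hmem : ∀ a, π a ∈ Set.range ι₁ → a ∈ W' := fun a ha => hPW₁ ⟨a, ha, rfl⟩
  have hnot : ∀ a, π a ∈ N → a ∉ W' := fun a ha => hQW₁ (j a) ⟨⟨subset_closure ⟨a, rfl⟩, by
    show I ≤ (p (j a)).asIdeal
    rw [hjpx]; exact hun.le (Or.inr ha)⟩, Or.inr (hCN.ge ha)⟩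
  have hZZ : Disjoint (π '' (W' : Set X')) (π '' (W' : Set X')ᶜ) := by
    rw [Set.disjoint_iff_inter_eq_empty]
    by_contra hne
    obtain ⟨x, ⟨a, ha, rfl⟩, hxa⟩ := Set.nonempty_iff_ne_empty.2 hne
    obtain ⟨s, ⟨w, hw, hws⟩, hs⟩ := exists_mem_of_isClosed hjac
      ((q ≫ f).isClosedMap _ (hZ2.preimage q.continuous)) ⟨(q ≫ f) ⟨a, ha⟩, ⟨a, ha⟩, hxa, rfl⟩
    subst hws
    obtain ⟨b, hb, hbw⟩ := hw
    have hI : I ≤ (f (q w)).asIdeal := hs
    rcases hun.ge hI with h | h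
    · exact hb (hmem b (hbw ▸ h))
    · exact hnot w.1 h w.2
  have hcompl : (π '' (W' : Set X')ᶜ)ᶜ = π '' (W' : Set X') := by
    refine subset_antisymm (fun x hx => ?_) (Set.subset_compl_iff_disjoint_right.2 hZZ)
    obtain ⟨a, rfl⟩ := π.surjective x
    by_contra h
    exact hx ⟨a, fun ha => h ⟨a, ha, rfl⟩, rfl⟩
  let WX : X.Opens := ⟨π '' (W' : Set X'), hcompl ▸ hZ2.isOpen_compl⟩
  refine ⟨WX, hZ1, ?_, fun x hx => ?_, Set.disjoint_right.2 fun x hx hxN => ?_⟩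
  · have hq : Set.range q = (WX : Set X) := by
      show Set.range (W'.ι ≫ π) = _
      rw [Scheme.Hom.comp_base, TopCat.coe_comp, Set.range_comp, Scheme.Opens.range_ι]
      rfl
    let t := IsOpenImmersion.lift WX.ι q (by rw [Scheme.Opens.range_ι, hq])
    have ht : t ≫ WX.ι = q := IsOpenImmersion.lift_fac _ _ _
    haveI : Surjective t := ⟨fun y => by
      obtain ⟨w, hw⟩ := hq.ge y.2
      refine ⟨w, WX.ι.isOpenEmbedding.injective ?_⟩
      rw [← Scheme.Hom.comp_apply, ht, hw]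
      rfl⟩
    haveI : IsClosedImmersion WX.ι :=
      IsClosedImmersion.of_isPreimmersion _ (by rw [Scheme.Opens.range_ι]; exact hZ1)
    haveI : UniversallyClosed (t ≫ WX.ι ≫ f) := by
      rw [← Category.assoc, ht]; infer_instance
    haveI : UniversallyClosed (WX.ι ≫ f) := UniversallyClosed.of_comp_surjective t _
    exact {}
  · obtain ⟨a, rfl⟩ := π.surjective x
    exact ⟨a, hmem a hx, rfl⟩
  · obtain ⟨a, ha, rfl⟩ := hx
    exact hnot a hxN ha

end Groth.Agent.Henz21.GabberClopen
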