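import Groth.Prelude.Def_CohB1
import Mathlib.RingTheory.Spectrum.Prime.Topology
import Mathlib.RingTheory.MvPolynomial.Ideal

/-!
Algebraic data of a clopen subset of a quasi-compact open of an affine scheme, and homogeneous
polynomials with prescribed value.
-/

set_option autoImplicit false

universe u

open PrimeSpectrum

noncomputable section

namespace Groth.Agent.Henz21.GabberClopen

/-- Each `a l` is, at every point, `g l ^ N` times the indicator function of `V`. -/
def IsIndicator {R : Type u} [CommRing R] {ι : Type} (g : ι → R) (N : ℕ) (a : ι → R)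
    (V : Set (PrimeSpectrum R)) : Prop :=
  ∀ x : PrimeSpectrum R, (x ∈ V → ∀ l, a l - g l ^ N ∈ x.asIdeal) ∧
    (x ∉ V → ∀ l, a l ∈ x.asIdeal)

theorem IsIndicator.raise {R : Type u} [CommRing R] {ι : Type} {g : ι → R} {N : ℕ} {a : ι → R}
    {V : Set (PrimeSpectrum R)} (h : IsIndicator g N a V) {M : ℕ} (hM : N ≤ M) :
    IsIndicator g M (fun l => a l * g l ^ (M - N)) V := by
  intro x
  refine ⟨fun hx l => ?_, fun hx l => Ideal.mul_mem_right _ _ ((h x).2 hx l)⟩
  rw [show a l * g l ^ (M - N) - g l ^ M = (a l - g l ^ N) * g l ^ (M - N) by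
    rw [sub_mul, ← pow_add, Nat.add_sub_cancel' hM]]
  exact Ideal.mul_mem_right _ _ ((h x).1 hx l)

/-- A relatively clopen subset of a quasi-compact open has an indicator. -/
theorem exists_isIndicator {R : Type u} [CommRing R] {ι : Type} [Fintype ι] (g : ι → R)
    (V U : Set (PrimeSpectrum R)) (hU : ∀ x, x ∈ U ↔ ∃ l, g l ∉ x.asIdeal)
    (hV : IsOpen V) (hV' : IsOpen (U \ V)) :
    ∃ (N : ℕ) (a : ι → R), 1 ≤ N ∧ IsIndicator g N a V := by
  classical
  have hloc : ∀ l, ∃ (e : Localization.Away (g l)) (a : R) (n : ℕ), IsIdempotentElem e ∧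
      e * algebraMap R _ (g l) ^ n = algebraMap R _ a ∧
      PrimeSpectrum.comap (algebraMap R (Localization.Away (g l))) ⁻¹' V =
        (basicOpen e : Set (PrimeSpectrum (Localization.Away (g l)))) := by
    intro l
    let c := PrimeSpectrum.comap (algebraMap R (Localization.Away (g l)))
    have hcU : ∀ y, c y ∈ U := fun y => (hU _).2 ⟨l, fun hl => y.isPrime.ne_top
      (Ideal.eq_top_of_isUnit_mem _ hl (IsLocalization.Away.algebraMap_isUnit (g l)))⟩
    have hclopen : IsClopen (c ⁻¹' V) := by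
      refine ⟨?_, hV.preimage (PrimeSpectrum.continuous_comap _)⟩
      rw [← isOpen_compl_iff, show (c ⁻¹' V)ᶜ = c ⁻¹' (U \ V) from
        Set.ext fun y => ⟨fun h => ⟨hcU y, h⟩, fun h => h.2⟩]
      exact hV'.preimage (PrimeSpectrum.continuous_comap _)
    obtain ⟨e, hid, he⟩ := PrimeSpectrum.isClopen_iff.1 hclopen
    obtain ⟨⟨a, ⟨_, n, rfl⟩⟩, ha⟩ := IsLocalization.surj (Submonoid.powers (g l)) e
    exact ⟨e, a, n, hid, by rw [← map_pow]; exact ha, he⟩
  choose e a n hid hea heV using hloc
  let N := Finset.univ.sup n + 1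
  have hnN : ∀ l, n l + 1 ≤ N := fun l => Nat.succ_le_succ (Finset.le_sup (Finset.mem_univ l))
  refine ⟨N, fun l => a l * g l ^ (N - n l), Nat.le_add_left _ _, fun x => ?_⟩
  have key : ∀ l, g l ∉ x.asIdeal → ∃ y : PrimeSpectrum (Localization.Away (g l)),
      PrimeSpectrum.comap (algebraMap R (Localization.Away (g l))) y = x ∧
      (x ∈ V ↔ e l ∉ y.asIdeal) ∧
      algebraMap R _ (a l * g l ^ (N - n l)) = e l * algebraMap R _ (g l) ^ N := by
    intro l hl
    obtain ⟨y, hy⟩ : x ∈ Set.range (PrimeSpectrum.comap (algebraMap R (Localization.Away (g l)))) := by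
      rw [PrimeSpectrum.localization_away_comap_range (Localization.Away (g l)) (g l)]
      exact hl
    refine ⟨y, hy, ?_, ?_⟩
    · have := Set.ext_iff.1 (heV l) y
      rw [Set.mem_preimage, hy] at this
      exact this
    · rw [map_mul, ← hea, map_pow, mul_assoc, ← pow_add,
        Nat.add_sub_cancel' (Nat.le_of_succ_le (hnN l))]
  have hgx : ∀ l, g l ∈ x.asIdeal → a l * g l ^ (N - n l) ∈ x.asIdeal := fun l hl =>
    Ideal.mul_mem_left _ _ (Ideal.pow_mem_of_mem _ hl _ (by have := hnN l; omega))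
  constructor
  · intro hx l
    by_cases hl : g l ∈ x.asIdeal
    · exact sub_mem (hgx l hl) (Ideal.pow_mem_of_mem _ hl _ (Nat.succ_pos _))
    obtain ⟨y, hy, hiff, hval⟩ := key l hl
    rw [← hy]
    show algebraMap R _ (a l * g l ^ (N - n l) - g l ^ N) ∈ y.asIdeal
    have h1 : e l - 1 ∈ y.asIdeal := by
      refine (y.isPrime.mem_or_mem (?_ : e l * (e l - 1) ∈ y.asIdeal)).resolve_left (hiff.1 hx)
      rw [mul_sub, mul_one, (hid l).eq, sub_self]
      exact Ideal.zero_mem _
    rw [map_sub, hval, map_pow,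
      show e l * algebraMap R _ (g l) ^ N - algebraMap R _ (g l) ^ N =
        (e l - 1) * algebraMap R (Localization.Away (g l)) (g l) ^ N by ring]
    exact Ideal.mul_mem_right _ _ h1
  · intro hx l
    by_cases hl : g l ∈ x.asIdeal
    · exact hgx l hl
    obtain ⟨y, hy, hiff, hval⟩ := key l hl
    rw [← hy]
    show algebraMap R _ (a l * g l ^ (N - n l)) ∈ y.asIdeal
    rw [hval]
    exact Ideal.mul_mem_right _ _ (not_not.1 fun h => hx (hiff.2 h))

/-- An element of `I * K ^ j`, `K` generated by the coordinates of `w`, is the value at `w` of a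
homogeneous polynomial of degree `j` with coefficients in `I`. -/
theorem exists_homogeneous_eval {A : Type u} [CommRing A] {σ : Type} [Fintype σ] (w : σ → A)
    (I : Ideal A) (j : ℕ) {d : A} (hd : d ∈ I * Ideal.span (Set.range w) ^ j) :
    ∃ G : MvPolynomial σ A, G.IsHomogeneous j ∧
      G ∈ I.map (MvPolynomial.C : A →+* MvPolynomial σ A) ∧ MvPolynomial.eval w G = d := by
  classical
  have hJ : ∀ (i : ℕ), ∀ z ∈ Ideal.span (Set.range w) ^ i,
      ∃ G : MvPolynomial σ A, G.IsHomogeneous i ∧ MvPolynomial.eval w G = z := by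
    intro i
    induction i with
    | zero => exact fun z _ => ⟨MvPolynomial.C z, MvPolynomial.isHomogeneous_C _ _, by simp⟩
    | succ i ih =>
      intro z hz
      rw [pow_succ] at hz
      refine Submodule.mul_induction_on hz (fun p hp q hq => ?_) fun p q hp hq => ?_
      · obtain ⟨G, hG, rfl⟩ := ih p hp
        obtain ⟨c, rfl⟩ := Ideal.mem_span_range_iff_exists_fun.1 hq
        refine ⟨G * ∑ l, MvPolynomial.C (c l) * MvPolynomial.X l,
          hG.mul (MvPolynomial.IsHomogeneous.sum _ _ _ fun l _ =>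
            by simpa using (MvPolynomial.isHomogeneous_C σ (c l)).mul (MvPolynomial.isHomogeneous_X A l)), ?_⟩
        simp
      · obtain ⟨G, hG, rfl⟩ := hp
        obtain ⟨G', hG', rfl⟩ := hq
        exact ⟨G + G', hG.add hG', map_add _ _ _⟩
  refine Submodule.mul_induction_on hd (fun p hp q hq => ?_) fun p q hp hq => ?_
  · obtain ⟨G, hG, rfl⟩ := hJ j q hq
    exact ⟨MvPolynomial.C p * G, by simpa using (MvPolynomial.isHomogeneous_C σ p).mul hG,
      Ideal.mul_mem_right _ _ (Ideal.mem_map_of_mem _ hp), by simp⟩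
  · obtain ⟨G, hG, hGI, rfl⟩ := hp
    obtain ⟨G', hG', hGI', rfl⟩ := hq
    exact ⟨G + G', hG.add hG', add_mem hGI hGI', map_add _ _ _⟩

end Groth.Agent.Henz21.GabberClopen
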