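import Mathlib.RingTheory.Valuation.LocalSubring
import Mathlib.RingTheory.Valuation.ValuationRing
import Mathlib.RingTheory.Localization.FractionRing

/-! Valuation rings through a point centred in a prescribed closed set. -/

set_option autoImplicit false

universe u

open IsLocalRing

namespace Groth.Agent.Henz21.GabberClopen

/-- A prime and a maximal ideal above it are the kernel and the centre of a map to a valuation
ring. -/
theorem exists_valuationRing_point {R : Type u} [CommRing R] (y : Ideal R) [y.IsPrime]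
    (m : Ideal R) [m.IsMaximal] (hym : y ≤ m) :
    ∃ (O : Type u) (_ : CommRing O) (_ : IsDomain O) (_ : ValuationRing O) (χ : R →+* O),
      (∀ z, χ z = 0 ↔ z ∈ y) ∧ ∀ z ∈ m, χ z ∈ maximalIdeal O := by
  let L := FractionRing (R ⧸ y)
  let χ : R →+* L := (algebraMap (R ⧸ y) L).comp (Ideal.Quotient.mk y)
  have hker : ∀ z, χ z = 0 ↔ z ∈ y := fun z => by
    rw [RingHom.comp_apply, map_eq_zero_iff _ (IsFractionRing.injective _ _),
      Ideal.Quotient.eq_zero_iff_mem]
  have hne : m.map χ.rangeRestrict ≠ ⊤ := fun htop => by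
    have h1 := congrArg (Ideal.comap χ.rangeRestrict) htop
    rw [Ideal.comap_map_of_surjective _ χ.rangeRestrict_surjective, Ideal.comap_top, sup_eq_left.2] at h1
    · exact ‹m.IsMaximal›.ne_top h1
    · intro z hz
      exact hym ((hker z).1 (congrArg Subtype.val (Ideal.mem_bot.1 (Ideal.mem_comap.1 hz))))
  obtain ⟨O, hO, hOm⟩ := Ideal.image_subset_nonunits_valuationSubring _ hne
  refine ⟨O, inferInstance, inferInstance, inferInstance,
    χ.codRestrict O.toSubring fun z => hO ⟨z, rfl⟩, fun z => ?_, fun z hz => ?_⟩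
  · exact Subtype.ext_iff.trans (hker z)
  · rw [← ValuationSubring.coe_mem_nonunits_iff]
    exact hOm ⟨_, Ideal.mem_map_of_mem _ hz, rfl⟩

/-- A finite family in a valuation ring has an element dividing all. -/
theorem exists_dvd_all {O : Type u} [CommRing O] [IsDomain O] [ValuationRing O] {n : ℕ}
    (v : Fin (n + 1) → O) : ∃ l₀, ∀ l, v l₀ ∣ v l := by
  suffices h : ∀ s : Finset (Fin (n + 1)), s.Nonempty → ∃ l₀, ∀ l ∈ s, v l₀ ∣ v l by
    obtain ⟨l₀, h₀⟩ := h Finset.univ Finset.univ_nonempty
    exact ⟨l₀, fun l => h₀ l (Finset.mem_univ l)⟩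
  intro s hs
  induction hs using Finset.Nonempty.cons_induction with
  | singleton a => exact ⟨a, fun l hl => by rw [Finset.mem_singleton.1 hl]⟩
  | cons a s ha hs ih =>
    obtain ⟨b, hb⟩ := ih
    rcases ValuationRing.dvd_total (v a) (v b) with h | h
    · refine ⟨a, fun l hl => ?_⟩
      rcases Finset.mem_cons.1 hl with rfl | hl
      exacts [dvd_rfl, h.trans (hb l hl)]
    · refine ⟨b, fun l hl => ?_⟩
      rcases Finset.mem_cons.1 hl with rfl | hl
      exacts [h, hb l hl]

end Groth.Agent.Henz21.GabberClopen
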