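import Groth.Agent.Henz21.GabberClopen.ProjLift
import Groth.Agent.Henz21.GabberClopen.Data
import Groth.Agent.CAlg5.AdicFS
import Groth.Agent.An92.FSch.Stalk
import Groth.Agent.Henz21.GabberClopen.Val
import Mathlib.RingTheory.Noetherian.Nilpotent

/-!
Clopen subsets of a quasi-compact open of the spectrum of a henselian pair containing the
complement of the closed set, and of its preimage in the spectrum of the completion.
-/

set_option autoImplicit false
set_option linter.style.haveILetI false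
set_option backward.isDefEq.respectTransparency false

universe u

open IsLocalRing AlgebraicGeometry

noncomputable section

namespace Groth.Agent.Henz21.GabberClopen

variable {A : Type u} [CommRing A] (I : Ideal A)

local notation "Ah" => AdicCompletion I A
local notation "φh" => algebraMap A (AdicCompletion I A)


/-- Approximations of elements of the completion by elements of the ring. -/
theorem exists_approx (hI : I.FG) (n : ℕ) (z : Ah) :
    ∃ b : A, φh b - z ∈ (I ^ n).map φh ∧ AdicCompletion.evalₐ I n z = Ideal.Quotient.mk _ b := by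
  obtain ⟨b, hb⟩ := Ideal.Quotient.mk_surjective (AdicCompletion.evalₐ I n z)
  refine ⟨b, ?_, hb.symm⟩
  rw [Ideal.map_pow, ← CAlg5.evalₐ_eq_zero_iff I hI, map_sub, AlgHom.commutes, sub_eq_zero,
    Ideal.Quotient.algebraMap_eq, hb]

theorem map_le_maximal (m : Ideal Ah) [m.IsMaximal] : I.map φh ≤ m := by
  have hm : Ideal.jacobson (⊥ : Ideal Ah) ≤ m := sInf_le ⟨bot_le, ‹m.IsMaximal›⟩
  refine le_trans (fun z hz => ?_) hm
  rw [Ideal.mem_jacobson_bot]
  intro y
  refine An92.FSch.isUnit_of_isUnit_evalₐ_one I ?_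
  have h1 : z * y ∈ I.map φh := Ideal.mul_mem_right _ _ hz
  have h2 : AdicCompletion.evalₐ I 1 (z * y) = 0 := by
    have hle : I.map φh ≤ RingHom.ker (AdicCompletion.evalₐ I 1) := by
      refine Ideal.map_le_iff_le_comap.2 fun r hr => ?_
      show AdicCompletion.evalₐ I 1 (φh r) = 0
      rw [AlgHom.commutes, Ideal.Quotient.algebraMap_eq, Ideal.Quotient.eq_zero_iff_mem, pow_one]
      exact hr
    exact hle h1
  rw [map_add, h2, zero_add, map_one]
  exact isUnit_one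

/-- Injectivity: a clopen is determined by its preimage in the completion. -/
theorem eq_of_preimage_eq (hI : I.FG) [HenselianRing A I] {U V V' : Set (PrimeSpectrum A)}
    (hUo : IsOpen U) (hUc : IsCompact U) (hUI : ∀ x, x ∉ U → I ≤ x.asIdeal) (hVU : V ⊆ U)
    (hV : IsOpen V) (hVc : IsOpen (U \ V)) (hV'U : V' ⊆ U) (hV' : IsOpen V') (hV'c : IsOpen (U \ V'))
    (h : ∀ y : PrimeSpectrum Ah, PrimeSpectrum.comap φh y ∈ V ↔ PrimeSpectrum.comap φh y ∈ V') :
    V = V' := by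
  classical
  obtain ⟨G, hG⟩ := PrimeSpectrum.isCompact_isOpen_iff.1 ⟨hUc, hUo⟩
  let g : G → A := Subtype.val
  have hU : ∀ x, x ∈ U ↔ ∃ l, g l ∉ x.asIdeal := fun x => by
    rw [← hG, Set.mem_compl_iff, PrimeSpectrum.mem_zeroLocus, Set.not_subset]
    exact ⟨fun ⟨l, hl, hn⟩ => ⟨⟨l, hl⟩, hn⟩, fun ⟨⟨l, hl⟩, hn⟩ => ⟨l, hl, hn⟩⟩
  -- pass to an index type in `Type`
  let e := Fintype.equivFin G
  let g₀ : Fin (Fintype.card G) → A := g ∘ e.symm
  have hU₀ : ∀ x, x ∈ U ↔ ∃ l, g₀ l ∉ x.asIdeal := fun x => by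
    rw [hU]
    exact ⟨fun ⟨l, hl⟩ => ⟨e l, by simpa [g₀] using hl⟩, fun ⟨l, hl⟩ => ⟨_, hl⟩⟩
  obtain ⟨N₁, a₁, hN₁, ha₁⟩ := exists_isIndicator g₀ V U hU₀ hV hVc
  obtain ⟨N₂, a₂, hN₂, ha₂⟩ := exists_isIndicator g₀ V' U hU₀ hV' hV'c
  let N := max N₁ N₂
  have hb₁ := ha₁.raise (le_max_left N₁ N₂)
  have hb₂ := ha₂.raise (le_max_right N₁ N₂)
  set b₁ := fun l => a₁ l * g₀ l ^ (N - N₁)
  set b₂ := fun l => a₂ l * g₀ l ^ (N - N₂)
  change IsIndicator g₀ N b₁ V at hb₁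
  change IsIndicator g₀ N b₂ V' at hb₂
  let v := fun l => g₀ l ^ N
  let J : Ideal A := Ideal.span (Set.range v)
  obtain ⟨c, hc⟩ : ∃ c, I ^ c ≤ J := by
    refine Ideal.exists_pow_le_of_le_radical_of_fg ?_ hI
    rw [Ideal.radical_eq_sInf]
    refine le_sInf fun P ⟨hP, hPp⟩ => hUI ⟨P, hPp⟩ fun hx => ?_
    obtain ⟨l, hl⟩ := (hU₀ _).1 hx
    exact hl (hPp.mem_of_pow_mem N (hP (Ideal.subset_span ⟨l, rfl⟩)))
  -- the difference of the indicators is nilpotent in the completion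
  have hnil : ∀ l, IsNilpotent (φh (b₁ l - b₂ l)) := fun l => by
    rw [nilpotent_iff_mem_prime]
    intro P hP
    let y : PrimeSpectrum Ah := ⟨P, hP⟩
    show b₁ l - b₂ l ∈ (PrimeSpectrum.comap φh y).asIdeal
    by_cases hy : PrimeSpectrum.comap φh y ∈ V
    · have := sub_mem ((hb₁ _).1 hy l) ((hb₂ _).1 ((h y).1 hy) l)
      simpa using this
    · exact sub_mem ((hb₁ _).2 hy l) ((hb₂ _).2 (fun hy' => hy ((h y).2 hy')) l)
  choose k hk using hnil
  let K := Finset.univ.sup k + 1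
  have hKn : ∀ l n, (b₁ l - b₂ l) ^ K ∈ I ^ n := fun l n => by
    have h0 : φh ((b₁ l - b₂ l) ^ K) = 0 := by
      rw [map_pow]
      exact pow_eq_zero_of_le (Nat.le_succ_of_le (Finset.le_sup (Finset.mem_univ l))) (hk l)
    have := congrArg (AdicCompletion.evalₐ I n) h0
    rwa [AlgHom.commutes, map_zero, Ideal.Quotient.algebraMap_eq, Ideal.Quotient.eq_zero_iff_mem] at this
  -- Nakayama
  obtain ⟨M, hM⟩ : ∃ M, J ^ M ≤ Ideal.span (Set.range fun l => v l ^ K) :=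
    Ideal.exists_pow_le_of_le_radical_of_fg (Ideal.span_le.2 (by
      rintro _ ⟨l, rfl⟩
      exact ⟨K, Ideal.subset_span ⟨l, rfl⟩⟩)) (Submodule.fg_span (Set.finite_range v))
  let n := c * M + 1
  ext x
  by_contra hne
  have hxU : x ∈ U := by
    by_contra hx
    exact hne ⟨fun h1 => absurd (hVU h1) hx, fun h1 => absurd (hV'U h1) hx⟩
  have hmem : ∀ l, v l ^ K ∈ x.asIdeal ⊔ I ^ n := fun l => by
    have h1 : b₁ l - b₂ l - v l ∈ x.asIdeal ∨ b₁ l - b₂ l + v l ∈ x.asIdeal := by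
      by_cases hx : x ∈ V
      · have hx' : x ∉ V' := fun h' => hne ⟨fun _ => h', fun _ => hx⟩
        left
        rw [show b₁ l - b₂ l - v l = (b₁ l - g₀ l ^ N) - b₂ l by simp only [v]; ring]
        exact sub_mem ((hb₁ x).1 hx l) ((hb₂ x).2 hx' l)
      · have hx' : x ∈ V' := by
          by_contra h'
          exact hne ⟨fun h1 => absurd h1 hx, fun h1 => absurd h1 h'⟩
        right
        rw [show b₁ l - b₂ l + v l = b₁ l - (b₂ l - g₀ l ^ N) by simp only [v]; ring]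
        exact sub_mem ((hb₁ x).2 hx l) ((hb₂ x).1 hx' l)
    refine Ideal.mem_quotient_iff_mem_sup.1 ?_ |> fun h => (sup_comm (I ^ n) x.asIdeal) ▸ h
    have hd : Ideal.Quotient.mk x.asIdeal ((b₁ l - b₂ l) ^ K) ∈ (I ^ n).map (Ideal.Quotient.mk x.asIdeal) :=
      Ideal.mem_map_of_mem _ (hKn l n)
    rcases h1 with h1 | h1
    · rw [map_pow, (Ideal.Quotient.mk_eq_mk_iff_sub_mem _ _).2 h1, ← map_pow] at hd
      exact hd
    · rw [← sub_neg_eq_add] at h1
      rw [map_pow, (Ideal.Quotient.mk_eq_mk_iff_sub_mem _ _).2 h1, map_neg, neg_pow, ← map_pow] at hd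
      exact (Ideal.unit_mul_mem_iff_mem _ ((isUnit_one.neg).pow K)).1 hd
  let π := Ideal.Quotient.mk x.asIdeal
  have hJM : (J ^ M).map π ≤ I.map π * (J ^ M).map π := by
    have h1 : J ^ M ≤ x.asIdeal ⊔ I ^ n := by
      refine hM.trans (Ideal.span_le.2 ?_)
      rintro _ ⟨l, rfl⟩
      exact hmem l
    have h2 : I ^ n ≤ I * J ^ M := by
      rw [pow_succ', pow_mul]
      exact Ideal.mul_mono_right (Ideal.pow_right_mono hc M)
    calc (J ^ M).map π ≤ (x.asIdeal ⊔ I * J ^ M).map π := Ideal.map_mono (h1.trans (sup_le_sup_left h2 _))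
      _ = I.map π * (J ^ M).map π := by rw [Ideal.map_sup, Ideal.map_quotient_self, bot_sup_eq, Ideal.map_mul]
  have hjac : I.map π ≤ Ideal.jacobson ⊥ := by
    refine le_sInf fun P ⟨_, hP⟩ => Ideal.map_le_iff_le_comap.2 ?_
    haveI := Ideal.comap_isMaximal_of_surjective π Ideal.Quotient.mk_surjective (K := P)
    exact (HenselianRing.jac (I := I)).trans (sInf_le ⟨bot_le, inferInstance⟩)
  have hbot : (J ^ M).map π = ⊥ := Submodule.eq_bot_of_le_smul_of_le_jacobson_bot _ _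
    (Ideal.FG.map ((Submodule.fg_span (Set.finite_range v) : J.FG).pow M) π) hJM hjac
  rw [Ideal.map_eq_bot_iff_le_ker, Ideal.mk_ker] at hbot
  obtain ⟨l, hl⟩ := (hU₀ x).1 hxU
  exact hl (x.isPrime.mem_of_pow_mem _ (x.isPrime.mem_of_pow_mem M
    (hbot (Ideal.pow_mem_pow (Ideal.subset_span ⟨l, rfl⟩ : v l ∈ J) M))))

set_option maxHeartbeats 1000000 in
/-- Surjectivity: every clopen of the preimage in the completion descends. -/
theorem exists_preimage_eq (hI : I.FG) [HenselianRing A I] {U : Set (PrimeSpectrum A)}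
    (hUo : IsOpen U) (hUc : IsCompact U) (hUI : ∀ x, x ∉ U → I ≤ x.asIdeal)
    {S : Set (PrimeSpectrum Ah)} (hSU : S ⊆ PrimeSpectrum.comap φh ⁻¹' U) (hS : IsOpen S)
    (hSc : IsOpen (PrimeSpectrum.comap φh ⁻¹' U \ S)) :
    ∃ V ⊆ U, IsOpen V ∧ IsOpen (U \ V) ∧ PrimeSpectrum.comap φh ⁻¹' V = S := by
  classical
  obtain ⟨G, hG⟩ := PrimeSpectrum.isCompact_isOpen_iff.1 ⟨hUc, hUo⟩
  obtain ⟨m₀, g, hgrange⟩ : ∃ (m : ℕ) (g : Fin (m + 1) → A), Set.range g = insert 0 (G : Set A) := by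
    let G' := insert (0 : A) G
    have hpos : 0 < Fintype.card G' := Fintype.card_pos_iff.2 ⟨⟨0, Finset.mem_insert_self _ _⟩⟩
    obtain ⟨m, hm⟩ := Nat.exists_eq_add_of_le' hpos
    refine ⟨m, Subtype.val ∘ ((Fintype.equivFin G').trans (finCongr hm)).symm, ?_⟩
    rw [EquivLike.range_comp, Subtype.range_coe_subtype]
    ext z
    simp [G']
  have hU : ∀ x, x ∈ U ↔ ∃ l, g l ∉ x.asIdeal := fun x => by
    rw [← hG, Set.mem_compl_iff, PrimeSpectrum.mem_zeroLocus, Set.not_subset]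
    refine ⟨fun ⟨z, hz, hn⟩ => ?_, fun ⟨l, hl⟩ => ?_⟩
    · obtain ⟨l, rfl⟩ := hgrange.ge (Set.mem_insert_of_mem _ hz)
      exact ⟨l, hn⟩
    · rcases hgrange.le ⟨l, rfl⟩ with h0 | h0
      · exact absurd (h0 ▸ x.asIdeal.zero_mem) hl
      · exact ⟨_, h0, hl⟩
  obtain ⟨N, a, hN, ha⟩ := exists_isIndicator (fun l => φh (g l)) S
    (PrimeSpectrum.comap φh ⁻¹' U) (fun y => hU _) hS hSc
  let v := fun l => g l ^ N
  let J : Ideal A := Ideal.span (Set.range v)
  obtain ⟨c, hc⟩ : ∃ c, I ^ c ≤ J := by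
    refine Ideal.exists_pow_le_of_le_radical_of_fg ?_ hI
    rw [Ideal.radical_eq_sInf]
    refine le_sInf fun P ⟨hP, hPp⟩ => hUI ⟨P, hPp⟩ fun hx => ?_
    obtain ⟨l, hl⟩ := (hU _).1 hx
    exact hl (hPp.mem_of_pow_mem N (hP (Ideal.subset_span ⟨l, rfl⟩)))
  -- the equations hold up to nilpotents in the completion
  have hnil : ∀ q : Fin (m₀ + 1) × Fin (m₀ + 1), IsNilpotent (a q.1 * (a q.2 - φh (v q.2))) := fun q => by
    rw [nilpotent_iff_mem_prime]
    intro P hP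
    by_cases hy : (⟨P, hP⟩ : PrimeSpectrum Ah) ∈ S
    · have h1 := (ha _).1 hy q.2
      rw [show φh (g q.2) ^ N = φh (v q.2) from (map_pow _ _ _).symm] at h1
      exact Ideal.mul_mem_left _ _ h1
    · exact Ideal.mul_mem_right _ _ ((ha _).2 hy q.1)
  choose k hk using hnil
  let K := Finset.univ.sup k + 1
  let n := c * (2 * K) + 1
  choose b hb hbeval using fun l => exists_approx I hI n (a l)
  have hIn : I ^ n ≤ I * J ^ (2 * K) := by
    rw [pow_succ', pow_mul]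
    exact Ideal.mul_mono_right (Ideal.pow_right_mono hc _)
  let e : Fin (m₀ + 1) ⊕ Fin (m₀ + 1) ≃ Fin (2 * m₀ + 1 + 1) :=
    finSumFinEquiv.trans (finCongr (by omega))
  let w : Fin (2 * m₀ + 1 + 1) → A := fun i => Sum.elim v b (e.symm i)
  have hwv : ∀ l, w (e (Sum.inl l)) = v l := fun l => by simp [w]
  have hwb : ∀ l, w (e (Sum.inr l)) = b l := fun l => by simp [w]
  have hd : ∀ l j, (b l * (b j - v j)) ^ K ∈ I * Ideal.span (Set.range w) ^ (2 * K) := fun l j => by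
    refine Ideal.mul_mono_right (Ideal.pow_right_mono (Ideal.span_le.2 ?_) _) (hIn ?_)
    · rintro _ ⟨i, rfl⟩
      exact Ideal.subset_span ⟨e (Sum.inl i), hwv i⟩
    · rw [← Ideal.Quotient.eq_zero_iff_mem, map_pow, map_mul, map_sub, ← hbeval, ← hbeval,
        ← Ideal.Quotient.algebraMap_eq, ← (AdicCompletion.evalₐ I n).commutes, ← map_sub, ← map_mul,
        ← map_pow,
        pow_eq_zero_of_le (Nat.le_succ_of_le (Finset.le_sup (Finset.mem_univ (l, j)))) (hk (l, j)),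
        map_zero]
  choose Q hQh hQI hQe using fun l j => exists_homogeneous_eval w I (2 * K) (hd l j)
  let P' := MvPolynomial (Fin (2 * m₀ + 1 + 1)) A
  let XV : Fin (m₀ + 1) → P' := fun l => MvPolynomial.X (e (Sum.inl l))
  let XB : Fin (m₀ + 1) → P' := fun l => MvPolynomial.X (e (Sum.inr l))
  let F : Fin (m₀ + 1) → Fin (m₀ + 1) → P' := fun l j => (XB l * (XB j - XV j)) ^ K - Q l j
  have hF : ∀ l j, (F l j).IsHomogeneous (2 * K) := fun l j => by
    refine MvPolynomial.IsHomogeneous.sub ?_ (hQh l j)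
    exact ((MvPolynomial.isHomogeneous_X A _).mul
      ((MvPolynomial.isHomogeneous_X A _).sub (MvPolynomial.isHomogeneous_X A _))).pow K
  let 𝒜 := CohB1.polyGrading (2 * m₀ + 1) A
  let Zs : Set (ProjectiveSpectrum 𝒜) := ProjectiveSpectrum.zeroLocus 𝒜 (Set.range fun q : _ × _ => F q.1 q.2)
  let T : Set (CohB1.ProjSpace (2 * m₀ + 1) A) :=
    {z | I ≤ (CohB1.ProjSpace.toSpec (2 * m₀ + 1) A z).asIdeal}
  let CI : Set P' := MvPolynomial.C '' (I : Set A)
  let P₀ : Set (ProjectiveSpectrum 𝒜) := Zs ∩ ProjectiveSpectrum.zeroLocus 𝒜 (CI ∪ Set.range XB)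
  let Q₀ : Set (ProjectiveSpectrum 𝒜) :=
    Zs ∩ ProjectiveSpectrum.zeroLocus 𝒜 (CI ∪ Set.range fun l => XB l - XV l)
  have hTiff : ∀ z : ProjectiveSpectrum 𝒜, z ∈ T ↔ CI ⊆ z.asHomogeneousIdeal := fun z => by
    refine ⟨?_, fun h r hr => (mem_toSpec_iff z r).2 (h ⟨r, hr, rfl⟩)⟩
    rintro h _ ⟨r, hr, rfl⟩
    exact (mem_toSpec_iff z r).1 (h hr)
  have hdisj : Disjoint P₀ Q₀ := by
    rw [Set.disjoint_left]
    rintro z ⟨-, hzP⟩ ⟨-, hzQ⟩
    obtain ⟨i, hi⟩ := Approx60.ProjCharts.exists_mem_U A (2 * m₀ + 1) z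
    apply hi
    obtain ⟨i | i, rfl⟩ := e.surjective i
    · have h1 : XB i ∈ z.asHomogeneousIdeal.toIdeal := hzP (Or.inr ⟨i, rfl⟩)
      have h2 : XB i - XV i ∈ z.asHomogeneousIdeal.toIdeal := hzQ (Or.inr ⟨i, rfl⟩)
      have h3 := sub_mem h1 h2
      rw [sub_sub_cancel] at h3
      exact h3
    · exact hzP (Or.inr ⟨i, rfl⟩)
  have hun : P₀ ∪ Q₀ = Zs ∩ T := by
    ext z
    constructor
    · rintro (⟨h1, h2⟩ | ⟨h1, h2⟩) <;>
        exact ⟨h1, (hTiff z).2 fun r hr => h2 (Or.inl hr)⟩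
    rintro ⟨hz, hzT⟩
    have hzC := (hTiff z).1 hzT
    have hprod : ∀ l j, XB l * (XB j - XV j) ∈ z.asHomogeneousIdeal := fun l j => by
      refine z.isPrime.mem_of_pow_mem K ?_
      have h1 : F l j ∈ z.asHomogeneousIdeal.toIdeal := hz ⟨(l, j), rfl⟩
      have h2 : Q l j ∈ z.asHomogeneousIdeal.toIdeal :=
        (Ideal.span_le.2 hzC : Ideal.span CI ≤ z.asHomogeneousIdeal.toIdeal) (hQI l j)
      simpa [F] using add_mem h1 h2
    by_cases hall : ∀ l, XB l ∈ z.asHomogeneousIdeal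
    · exact Or.inl ⟨hz, Set.union_subset hzC (Set.range_subset_iff.2 hall)⟩
    push Not at hall
    obtain ⟨l, hl⟩ := hall
    exact Or.inr ⟨hz, Set.union_subset hzC (Set.range_subset_iff.2 fun j =>
      (z.isPrime.mem_or_mem (hprod l j)).resolve_left hl)⟩
  have hP₀ : IsClosed P₀ := (ProjectiveSpectrum.isClosed_zeroLocus 𝒜 _).inter
    (ProjectiveSpectrum.isClosed_zeroLocus 𝒜 _)
  have hQ₀ : IsClosed Q₀ := (ProjectiveSpectrum.isClosed_zeroLocus 𝒜 _).inter
    (ProjectiveSpectrum.isClosed_zeroLocus 𝒜 _)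
  obtain ⟨W₀, W₁, hW₀, hW₁, hW01, hWZ, hPW, hQW⟩ :=
    exists_clopen_lift_proj (N := 2 * m₀ + 1) I (Z := Zs) (ProjectiveSpectrum.isClosed_zeroLocus 𝒜 _)
      hP₀ hQ₀ hdisj hun
  -- the section over `U`
  have hexw : ∀ x : U, ∃ i, w i ∉ x.1.asIdeal := fun x => by
    obtain ⟨l, hl⟩ := (hU _).1 x.2
    exact ⟨e (Sum.inl l), fun h => hl (x.1.isPrime.mem_of_pow_mem N (by rwa [hwv] at h))⟩
  let σ : U → ProjectiveSpectrum 𝒜 := fun x =>
    { asHomogeneousIdeal := (x.1.asIdeal.comap (MvPolynomial.eval w)).homogeneousCore 𝒜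
      isPrime := (x.1.isPrime.comap _).homogeneousCore
      not_irrelevant_le := fun h => by
        obtain ⟨i, hi⟩ := hexw x
        have h1 : (MvPolynomial.X i : P') ∈ (HomogeneousIdeal.irrelevant 𝒜).toIdeal :=
          HomogeneousIdeal.mem_irrelevant_of_mem 𝒜 one_pos (MvPolynomial.isHomogeneous_X A i)
        have h2 := Ideal.toIdeal_homogeneousCore_le 𝒜 _ (h h1)
        rw [Ideal.mem_comap, MvPolynomial.eval_X] at h2
        exact hi h2 }
  have hσmem : ∀ (x : U) (d : ℕ) (p : P'), p ∈ 𝒜 d →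
      (p ∈ (σ x).asHomogeneousIdeal ↔ MvPolynomial.eval w p ∈ x.1.asIdeal) := fun x d p hp =>
    ⟨fun h => Ideal.toIdeal_homogeneousCore_le 𝒜 _ h, fun h =>
      Ideal.mem_homogeneousCore_of_homogeneous_of_mem ⟨d, hp⟩ h⟩
  have hσZ : ∀ x, σ x ∈ Zs := by
    rintro x _ ⟨⟨l, j⟩, rfl⟩
    refine (hσmem x _ _ (hF l j)).2 ?_
    simp [F, XB, XV, hwb, hwv, hQe]
  have hσc : Continuous σ := by
    refine continuous_iff_isClosed.2 fun C hC => ?_
    obtain ⟨s, rfl⟩ := (ProjectiveSpectrum.isClosed_iff_zeroLocus 𝒜 C).1 hC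
    have : σ ⁻¹' ProjectiveSpectrum.zeroLocus 𝒜 s = ⋂ p ∈ s, ⋂ i : ℕ,
        {x : U | MvPolynomial.eval w (DirectSum.decompose 𝒜 p i : P') ∈ x.1.asIdeal} := by
      ext x
      simp only [Set.mem_preimage, Set.mem_iInter, Set.mem_ofPred_eq]
      constructor
      · intro h p hp i
        exact (hσmem x i _ (SetLike.coe_mem _)).1
          ((Ideal.IsHomogeneous.mem_iff (𝒜 := 𝒜) (σ x).asHomogeneousIdeal.isHomogeneous).1 (h hp) i)
      · intro h p hp
        exact (Ideal.IsHomogeneous.mem_iff (𝒜 := 𝒜) (σ x).asHomogeneousIdeal.isHomogeneous).2 fun i =>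
          (hσmem x i _ (SetLike.coe_mem _)).2 (h p hp i)
    rw [this]
    refine isClosed_biInter fun p _ => isClosed_iInter fun i => ?_
    refine IsClosed.preimage continuous_subtype_val
      (?_ : IsClosed {x : PrimeSpectrum A | MvPolynomial.eval w (DirectSum.decompose 𝒜 p i : P') ∈ x.asIdeal})
    convert PrimeSpectrum.isClosed_zeroLocus {MvPolynomial.eval w (DirectSum.decompose 𝒜 p i : P')} using 1
    ext x; simp [PrimeSpectrum.mem_zeroLocus]
  have hσW : ∀ x, σ x ∈ W₁ ↔ σ x ∉ W₀ := fun x =>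
    ⟨fun h1 h0 => Set.disjoint_left.1 hW01 h0 h1, fun h0 => (hWZ.ge (hσZ x)).resolve_left h0⟩
  refine ⟨Subtype.val '' (σ ⁻¹' W₁), Subtype.coe_image_subset _ _, ?_, ?_, ?_⟩
  · refine hUo.isOpenMap_subtype_val _ ?_
    rw [show σ ⁻¹' W₁ = (σ ⁻¹' W₀)ᶜ from Set.ext hσW]
    exact (hW₀.preimage hσc).isOpen_compl
  · have : U \ Subtype.val '' (σ ⁻¹' W₁) = Subtype.val '' (σ ⁻¹' W₁)ᶜ := by
      rw [Set.image_compl_eq_range_sdiff_image Subtype.val_injective, Subtype.range_coe]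
    rw [this]
    exact hUo.isOpenMap_subtype_val _ (hW₁.preimage hσc).isOpen_compl
  ext y
  suffices key : ∀ hyU : PrimeSpectrum.comap φh y ∈ U,
      σ ⟨_, hyU⟩ ∈ (if y ∈ S then W₁ else W₀) by
    constructor
    · rintro ⟨x, hx, hxy⟩
      by_contra hyS
      have hx' : PrimeSpectrum.comap φh y ∈ U := hxy.subst (motive := fun q => q ∈ U) x.2
      have h := key hx'
      rw [if_neg hyS] at h
      obtain rfl : x = ⟨_, hx'⟩ := Subtype.ext hxy
      exact (hσW _).1 hx h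
    · intro hyS
      have h := key (hSU hyS)
      rw [if_pos hyS] at h
      exact ⟨⟨_, hSU hyS⟩, h, rfl⟩
  intro hyU
  -- a valuation ring through `y` centred in the special fibre
  haveI := y.isPrime
  obtain ⟨mm, hmm, hymm⟩ := y.asIdeal.exists_le_maximal y.isPrime.ne_top
  obtain ⟨O, _, _, _, χO, hχker, hχOm⟩ := exists_valuationRing_point y.asIdeal mm hymm
  let κ : A →+* O := χO.comp φh
  have hκ0 : ∀ z, κ z = 0 ↔ z ∈ (PrimeSpectrum.comap φh y).asIdeal := fun z => hχker (φh z)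
  obtain ⟨l₀, hl₀⟩ := exists_dvd_all fun l => κ (v l)
  let r : O := κ (v l₀)
  have hr : r ≠ 0 := fun h0 => by
    obtain ⟨l, hl⟩ := (hU _).1 hyU
    obtain ⟨t, ht⟩ := hl₀ l
    exact hl ((PrimeSpectrum.comap φh y).isPrime.mem_of_pow_mem N ((hκ0 _).1 (by
      rw [show g l ^ N = v l from rfl, ht, show κ (v l₀) = 0 from h0, zero_mul])))
  choose t ht using hl₀
  have ht₀ : t l₀ = 1 :=
    mul_left_cancel₀ hr (((mul_one r).trans (ht l₀)).symm)
  have hJr : J.map κ ≤ Ideal.span {r} := by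
    rw [Ideal.map_span, Ideal.span_le]
    rintro _ ⟨_, ⟨l, rfl⟩, rfl⟩
    exact Ideal.mem_span_singleton'.2 ⟨t l, by rw [mul_comm, ← ht]⟩
  have hκI : ∀ z ∈ I, κ z ∈ maximalIdeal O := fun z hz =>
    hχOm _ (map_le_maximal I mm (Ideal.mem_map_of_mem _ hz))
  have hsmall : ∀ z ∈ (I ^ n).map φh, ∃ μ ∈ maximalIdeal O, χO z = r * μ := by
    intro z hz
    have h1 : χO z ∈ (I ^ n).map κ := by
      show χO z ∈ (I ^ n).map (χO.comp φh)
      rw [← Ideal.map_map]
      exact Ideal.mem_map_of_mem _ hz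
    have h2 : (I ^ n).map κ ≤ maximalIdeal O * Ideal.span {r} := by
      refine (Ideal.map_mono (hIn.trans (Ideal.mul_mono_right (Ideal.pow_le_self ?_)))).trans ?_
      · simp [K]
      rw [Ideal.map_mul]
      exact Ideal.mul_mono (Ideal.map_le_iff_le_comap.2 hκI) hJr
    obtain ⟨μ, hμ, hμz⟩ := Ideal.mem_mul_span_singleton.1 (h2 h1)
    exact ⟨μ, hμ, by rw [← hμz, mul_comm]⟩
  choose μ hμ hμeq using fun l => hsmall _ (hb l)
  let ε : O := if y ∈ S then 1 else 0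
  have hexact : ∀ l, χO (a l) = ε * κ (v l) := fun l => by
    by_cases hy : y ∈ S
    · simp only [ε, if_pos hy, one_mul]
      show χO (a l) = χO (φh (v l))
      rw [← sub_eq_zero, ← map_sub, hχker, show φh (v l) = φh (g l) ^ N from map_pow _ _ _]
      exact (ha y).1 hy l
    · simp only [ε, if_neg hy, zero_mul]
      rw [hχker]
      exact (ha y).2 hy l
  let s : Fin (m₀ + 1) → O := fun l => ε * t l + μ l
  have hκb : ∀ l, κ (b l) = r * s l := fun l => by
    have h1 := hμeq l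
    rw [map_sub, hexact, ht] at h1
    show χO (φh (b l)) = _
    simp only [s]
    linear_combination h1
  let co : Fin (2 * m₀ + 1 + 1) → O := fun i => Sum.elim t s (e.symm i)
  have hco : (fun i => κ (w i)) = fun i => r * co i := funext fun i => by
    obtain ⟨j | j, rfl⟩ := e.surjective i
    · show κ (w (e (Sum.inl j))) = r * co (e (Sum.inl j))
      rw [hwv, show co (e (Sum.inl j)) = t j from congrArg (Sum.elim t s) (e.symm_apply_apply _)]
      exact ht j
    · show κ (w (e (Sum.inr j))) = r * co (e (Sum.inr j))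
      rw [hwb, show co (e (Sum.inr j)) = s j from congrArg (Sum.elim t s) (e.symm_apply_apply _)]
      exact hκb j
  have hcoV : ∀ j, co (e (Sum.inl j)) = t j := fun j => congrArg (Sum.elim t s) (e.symm_apply_apply _)
  have hcoB : ∀ j, co (e (Sum.inr j)) = s j := fun j => congrArg (Sum.elim t s) (e.symm_apply_apply _)
  let ev : P' →+* O := MvPolynomial.eval₂Hom κ co
  have hev : ∀ (d : ℕ) (p : P'), p.IsHomogeneous d → κ (MvPolynomial.eval w p) = r ^ d * ev p :=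
    fun d p hp => by
      rw [← Approx60.ProjCharts.eval_smul κ r co hp, ← hco]
      exact MvPolynomial.eval₂_comp_left κ (RingHom.id A) w p
  let z₀ : ProjectiveSpectrum 𝒜 :=
    { asHomogeneousIdeal := ((maximalIdeal O).comap ev).homogeneousCore 𝒜
      isPrime := ((maximalIdeal.isMaximal O).isPrime.comap _).homogeneousCore
      not_irrelevant_le := fun h => by
        have h1 : (XV l₀ : P') ∈ (HomogeneousIdeal.irrelevant 𝒜).toIdeal :=
          HomogeneousIdeal.mem_irrelevant_of_mem 𝒜 one_pos (MvPolynomial.isHomogeneous_X A _)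
        have h2 := Ideal.toIdeal_homogeneousCore_le 𝒜 _ (h h1)
        rw [Ideal.mem_comap] at h2
        rw [MvPolynomial.eval₂Hom_X', hcoV, ht₀] at h2
        exact (maximalIdeal.isMaximal O).ne_top ((Ideal.eq_top_iff_one _).2 h2) }
  have hz₀mem : ∀ (d : ℕ) (p : P'), p ∈ 𝒜 d → ev p ∈ maximalIdeal O → p ∈ z₀.asHomogeneousIdeal :=
    fun d p hp h => Ideal.mem_homogeneousCore_of_homogeneous_of_mem ⟨d, hp⟩ h
  have hle : (σ ⟨_, hyU⟩).asHomogeneousIdeal.toIdeal ≤ z₀.asHomogeneousIdeal.toIdeal := by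
    intro p hp
    refine (Ideal.IsHomogeneous.mem_iff (𝒜 := 𝒜) z₀.asHomogeneousIdeal.isHomogeneous).2 fun i =>
      hz₀mem i _ (SetLike.coe_mem _) ?_
    have h1 := (hσmem _ i _ (SetLike.coe_mem _)).1
      ((Ideal.IsHomogeneous.mem_iff (𝒜 := 𝒜) (σ ⟨_, hyU⟩).asHomogeneousIdeal.isHomogeneous).1 hp i)
    have h2 := (hκ0 _).2 h1
    rw [hev i _ (SetLike.coe_mem (DirectSum.decompose 𝒜 p i) : (DirectSum.decompose 𝒜 p i : P') ∈ 𝒜 i)] at h2
    rw [(mul_eq_zero.1 h2).resolve_left (pow_ne_zero _ hr)]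
    exact Ideal.zero_mem _
  have hspec : ∀ C : Set (ProjectiveSpectrum 𝒜), IsClosed C → σ ⟨_, hyU⟩ ∈ C → z₀ ∈ C := by
    intro C hC h
    obtain ⟨s', rfl⟩ := (ProjectiveSpectrum.isClosed_iff_zeroLocus 𝒜 C).1 hC
    exact fun p hp => hle (h hp)
  have hz₀Z : z₀ ∈ Zs := hspec _ (ProjectiveSpectrum.isClosed_zeroLocus 𝒜 _) (hσZ _)
  have hz₀C : CI ⊆ z₀.asHomogeneousIdeal := by
    rintro _ ⟨c', hc', rfl⟩
    exact hz₀mem 0 _ (MvPolynomial.isHomogeneous_C _ _) (by
      rw [MvPolynomial.eval₂Hom_C]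
      exact hκI c' hc')
  have hside : z₀ ∈ (if y ∈ S then Q₀ else P₀) := by
    by_cases hy : y ∈ S
    · rw [if_pos hy]
      refine ⟨hz₀Z, Set.union_subset hz₀C (Set.range_subset_iff.2 fun l => ?_)⟩
      refine hz₀mem 1 _ ((MvPolynomial.isHomogeneous_X A _).sub (MvPolynomial.isHomogeneous_X A _)) ?_
      rw [map_sub, MvPolynomial.eval₂Hom_X', MvPolynomial.eval₂Hom_X', hcoB, hcoV]
      simp only [s, ε, if_pos hy, one_mul, add_sub_cancel_left]
      exact hμ l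
    · rw [if_neg hy]
      refine ⟨hz₀Z, Set.union_subset hz₀C (Set.range_subset_iff.2 fun l => ?_)⟩
      refine hz₀mem 1 _ (MvPolynomial.isHomogeneous_X A _) ?_
      rw [MvPolynomial.eval₂Hom_X', hcoB]
      simp only [s, ε, if_neg hy, zero_mul, zero_add]
      exact hμ l
  by_cases hy : y ∈ S
  · rw [if_pos hy] at hside ⊢
    rw [hσW]
    exact fun h => Set.disjoint_left.1 hW01 (hspec _ hW₀ h) (hQW hside)
  · rw [if_neg hy] at hside ⊢
    by_contra h
    exact Set.disjoint_left.1 hW01 (hPW hside) (hspec _ hW₁ ((hσW _).2 h))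

end Groth.Agent.Henz21.GabberClopen
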