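import Groth.Prelude.Def_CohB1
import Groth.Agent.Stein58.Zariski
import Groth.Agent.Approx60.Segre
import Groth.Agent.Hensel20.PairApi
import Mathlib.AlgebraicGeometry.Morphisms.Proper

/-!
Clopens of closed subsets of projective space over a henselian pair.
-/

set_option autoImplicit false
set_option linter.style.haveILetI false
set_option backward.isDefEq.respectTransparency false

universe u

open CategoryTheory AlgebraicGeometry TopologicalSpace

noncomputable section

namespace Groth.Agent.Henz21.GabberClopen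

/-- The contraction of a point of projective space to the base. -/
theorem mem_toSpec_iff {A : Type u} [CommRing A] {N : ℕ} (z : CohB1.ProjSpace N A) (r : A) :
    r ∈ (CohB1.ProjSpace.toSpec N A z).asIdeal ↔
      (MvPolynomial.C r : MvPolynomial (Fin (N + 1)) A) ∈ z.asHomogeneousIdeal := by
  let 𝒜 := CohB1.polyGrading N A
  obtain ⟨j, hj⟩ := Approx60.ProjCharts.exists_mem_U A N z
  let f : MvPolynomial (Fin (N + 1)) A := MvPolynomial.X j
  have hf : f ∈ 𝒜 1 := MvPolynomial.isHomogeneous_X A j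
  let g : MvPolynomial (Fin (N + 1)) A := MvPolynomial.C r * MvPolynomial.X j
  have hg : g ∈ 𝒜 1 := by
    show g.IsHomogeneous 1
    simpa using (MvPolynomial.isHomogeneous_C (Fin (N + 1)) r).mul (MvPolynomial.isHomogeneous_X A j)
  have hmem : z ∈ (Proj.awayι 𝒜 f hf one_pos).opensRange := by
    rw [Proj.opensRange_awayι]; exact hj
  obtain ⟨y, rfl⟩ := hmem
  have hfun : CohB1.ProjSpace.toSpec N A (Proj.awayι 𝒜 f hf one_pos y) =
      Spec.map (CommRingCat.ofHom ((HomogeneousLocalization.fromZeroRingHom 𝒜 _).comp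
        (algebraMap A (𝒜 0)))) y := by
    have e : Proj.awayι 𝒜 f hf one_pos ≫ CohB1.ProjSpace.toSpec N A =
        Spec.map (CommRingCat.ofHom ((HomogeneousLocalization.fromZeroRingHom 𝒜 _).comp
          (algebraMap A (𝒜 0)))) := by
      show Proj.awayι 𝒜 f hf one_pos ≫ Proj.toSpecZero 𝒜 ≫ Spec.map _ = _
      rw [Proj.awayι_toSpecZero_assoc, ← Spec.map_comp]
      rfl
    exact (Scheme.Hom.comp_apply _ (CohB1.ProjSpace.toSpec N A) y).symm.trans
      congr($e y)
  rw [hfun]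
  have helem : HomogeneousLocalization.Away.isLocalizationElem hf hg =
      HomogeneousLocalization.fromZeroRingHom 𝒜 (Submonoid.powers f) (algebraMap A (𝒜 0) r) := by
    refine HomogeneousLocalization.val_injective _ ?_
    have e1 : (HomogeneousLocalization.Away.isLocalizationElem hf hg).val =
        Localization.mk (g ^ 1) (⟨f ^ 1, 1, rfl⟩ : Submonoid.powers f) := HomogeneousLocalization.val_mk _
    have e2 : (HomogeneousLocalization.fromZeroRingHom 𝒜 (Submonoid.powers f) (algebraMap A (𝒜 0) r)).val =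
        Localization.mk (MvPolynomial.C r) (1 : Submonoid.powers f) := HomogeneousLocalization.val_mk _
    rw [e1, e2, Localization.mk_eq_mk_iff, Localization.r_iff_exists]
    exact ⟨1, by simp [f, g, mul_comm]⟩
  have h1 : Proj.awayι 𝒜 f hf one_pos y ∈ Proj.basicOpen 𝒜 g ↔
      HomogeneousLocalization.Away.isLocalizationElem hf hg ∉ y.asIdeal := by
    rw [← Scheme.Hom.mem_preimage, Proj.awayι_preimage_basicOpen 𝒜 hf one_pos hg one_pos]
    rfl
  rw [helem] at h1
  have h2 : Proj.awayι 𝒜 f hf one_pos y ∈ Proj.basicOpen 𝒜 g ↔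
      g ∉ (Proj.awayι 𝒜 f hf one_pos y).asHomogeneousIdeal := Iff.rfl
  have h3 := not_iff_not.1 (h2.symm.trans h1)
  refine h3.symm.trans ⟨fun h => ?_, fun h => Ideal.mul_mem_right _ _ h⟩
  exact ((Proj.awayι 𝒜 f hf one_pos y).isPrime.mem_or_mem h).resolve_right hj

/-- Clopen decompositions of the special fibre of a proper scheme over a henselian pair lift. -/
theorem exists_clopen_lift_proper {A : Type u} [CommRing A] (I : Ideal A) [HenselianRing A I]
    {X : Scheme.{u}} (f : X ⟶ Spec (CommRingCat.of A)) [IsProper f] {P Q : Set X} (hP : IsClosed P)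
    (hQ : IsClosed Q) (hPQ : Disjoint P Q) (hun : P ∪ Q = {x | I ≤ (f x).asIdeal}) :
    ∃ W : Set X, IsClopen W ∧ P ⊆ W ∧ Disjoint Q W := by
  haveI : CompactSpace X := QuasiCompact.compactSpace_of_compactSpace f
  haveI := Stein58.isProper_toSpecΓ f
  haveI : IsIso X.toSpecΓ.appTop := by rw [Scheme.toSpecΓ_appTop]; infer_instance
  haveI : GeometricallyConnected X.toSpecΓ := Stein58.geometricallyConnected_of_isIso_appTop' X.toSpecΓ
  let φ := (Scheme.ΓSpecIso (CommRingCat.of A)).inv ≫ f.appTop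
  have hf : X.toSpecΓ ≫ Spec.map φ = f := by
    rw [Spec.map_comp, ← Category.assoc, ← Scheme.toSpecΓ_naturality, Category.assoc,
      ← SpecMap_ΓSpecIso_hom, ← Spec.map_comp, Iso.inv_hom_id, Spec.map_id, Category.comp_id]
  let B := Γ(X, ⊤)
  letI : Algebra A B := φ.hom.toAlgebra
  haveI : Algebra.IsIntegral A B := ⟨by
    have := (isIntegral_appTop_of_universallyClosed f)
    intro b
    exact RingHom.IsIntegral.trans _ _ (RingHom.isIntegral_of_surjective _
      (Scheme.ΓSpecIso (CommRingCat.of A)).symm.commRingCatIsoToRingEquiv.surjective) this b⟩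
  let h : X → PrimeSpectrum B := fun x => X.toSpecΓ x
  have hI : ∀ x, I ≤ (f x).asIdeal ↔ I.map (algebraMap A B) ≤ (h x).asIdeal := fun x => by
    rw [show f x = Spec.map φ (X.toSpecΓ x) by rw [← Scheme.Hom.comp_apply, hf], Ideal.map_le_iff_le_comap]
    rfl
  have hsep : ∀ p ∈ P, ∀ q ∈ Q, h p ≠ h q := by
    intro p hp q hq e
    have hc := (X.toSpecΓ.isConnected_preimage_singleton (h p)).isPreconnected
    have hsub : X.toSpecΓ ⁻¹' {h p} ⊆ P ∪ Q := fun x hx => by
      rw [hun]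
      show I ≤ _
      rw [hI, show h x = h p from hx, ← hI]
      exact hun.le (Or.inl hp)
    obtain ⟨x, -, hxP, hxQ⟩ :=
      isPreconnected_closed_iff.1 hc P Q hP hQ hsub ⟨p, rfl, hp⟩ ⟨q, e.symm, hq⟩
    exact Set.disjoint_left.1 hPQ hxP hxQ
  have hcover : ∀ y : PrimeSpectrum B, I.map (algebraMap A B) ≤ y.asIdeal → y ∈ h '' P ∪ h '' Q := by
    intro y hy
    obtain ⟨x, rfl⟩ := X.toSpecΓ.surjective y
    rcases hun.ge (show x ∈ {x | I ≤ (f x).asIdeal} from (hI x).2 hy) with hx | hx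
    exacts [Or.inl ⟨x, hx, rfl⟩, Or.inr ⟨x, hx, rfl⟩]
  let mk := Ideal.Quotient.mk (I.map (algebraMap A B))
  have hclP : IsClosed (h '' P) := X.toSpecΓ.isClosedMap P hP
  have hclQ : IsClosed (h '' Q) := X.toSpecΓ.isClosedMap Q hQ
  have hPc : (PrimeSpectrum.comap mk ⁻¹' (h '' P))ᶜ = PrimeSpectrum.comap mk ⁻¹' (h '' Q) := by
    ext y
    have hy : I.map (algebraMap A B) ≤ (PrimeSpectrum.comap mk y).asIdeal := fun b hb => by
      show mk b ∈ y.asIdeal
      rw [Ideal.Quotient.eq_zero_iff_mem.2 hb]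
      exact Ideal.zero_mem _
    refine ⟨fun h0 => (hcover _ hy).resolve_left h0, ?_⟩
    rintro ⟨q, hq, e⟩ ⟨p, hp, e'⟩
    exact hsep p hp q hq (e'.trans e.symm)
  have hclopen : IsClopen (PrimeSpectrum.comap mk ⁻¹' (h '' P)) := by
    refine ⟨hclP.preimage (PrimeSpectrum.continuous_comap mk), ?_⟩
    rw [← isClosed_compl_iff, hPc]
    exact hclQ.preimage (PrimeSpectrum.continuous_comap mk)
  obtain ⟨ε, hε, he⟩ := PrimeSpectrum.isClopen_iff.1 hclopen
  obtain ⟨c, hc, hcε⟩ := (Hensel20.idempotents_bijOn (I := I) (B := B)).surjOn hε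
  have hmem : ∀ x : X, I ≤ (f x).asIdeal → (c ∉ (h x).asIdeal ↔ h x ∈ h '' P) := by
    intro x hx
    obtain ⟨y, hy⟩ : h x ∈ Set.range (PrimeSpectrum.comap mk) := by
      rw [range_comap_of_surjective _ mk Ideal.Quotient.mk_surjective, Ideal.mk_ker]
      exact (hI x).1 hx
    have h1 : y ∈ (PrimeSpectrum.basicOpen ε : Set (PrimeSpectrum (B ⧸ I.map (algebraMap A B)))) ↔
        c ∉ (h x).asIdeal := by
      rw [← hy, ← hcε]; rfl
    rw [← h1, ← he, Set.mem_preimage, hy]
  refine ⟨h ⁻¹' (PrimeSpectrum.basicOpen c : Set (PrimeSpectrum B)), ⟨?_, ?_⟩, fun p hp => ?_,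
    Set.disjoint_left.2 fun q hq hqW => ?_⟩
  · exact (PrimeSpectrum.isClopen_iff.2 ⟨c, hc, rfl⟩).1.preimage X.toSpecΓ.continuous
  · exact (PrimeSpectrum.isClopen_iff.2 ⟨c, hc, rfl⟩).2.preimage X.toSpecΓ.continuous
  · exact (hmem p (hun.le (Or.inl hp))).2 ⟨p, hp, rfl⟩
  · obtain ⟨p, hp, e⟩ := (hmem q (hun.le (Or.inr hq))).1 hqW
    exact hsep p hp q hq e

/-- Clopen decompositions of the special fibre of a closed subset of projective space lift. -/
theorem exists_clopen_lift_proj {A : Type u} [CommRing A] (I : Ideal A) [HenselianRing A I] {N : ℕ}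
    {Z P Q : Set (CohB1.ProjSpace N A)} (hZ : IsClosed Z) (hP : IsClosed P) (hQ : IsClosed Q)
    (hPQ : Disjoint P Q)
    (hun : P ∪ Q = Z ∩ {z | I ≤ (CohB1.ProjSpace.toSpec N A z).asIdeal}) :
    ∃ W₁ W₂ : Set (CohB1.ProjSpace N A), IsClosed W₁ ∧ IsClosed W₂ ∧ Disjoint W₁ W₂ ∧ W₁ ∪ W₂ = Z ∧
      P ⊆ W₁ ∧ Q ⊆ W₂ := by
  let J := Scheme.IdealSheafData.vanishingIdeal (⟨Z, hZ⟩ : TopologicalSpace.Closeds (CohB1.ProjSpace N A))
  have hr : Set.range J.subschemeι = Z := by
    rw [Scheme.IdealSheafData.range_subschemeι, Scheme.IdealSheafData.coe_support_vanishingIdeal]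
    rfl
  haveI := Approx60.Segre.isProper_toSpec A N
  let ι := J.subschemeι
  haveI : IsProper (ι ≫ CohB1.ProjSpace.toSpec N A) := inferInstance
  obtain ⟨W, hW, hPW, hQW⟩ := exists_clopen_lift_proper I (ι ≫ CohB1.ProjSpace.toSpec N A)
    (hP.preimage ι.continuous) (hQ.preimage ι.continuous) (hPQ.preimage ι) (by
      ext x
      rw [← Set.preimage_union, hun]
      show ι x ∈ Z ∧ I ≤ _ ↔ I ≤ _
      rw [Scheme.Hom.comp_apply]
      exact and_iff_right (hr.le ⟨x, rfl⟩))
  refine ⟨ι '' W, ι '' Wᶜ, ι.isClosedEmbedding.isClosedMap _ hW.1,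
    ι.isClosedEmbedding.isClosedMap _ hW.compl.1,
    Set.disjoint_image_of_injective ι.isClosedEmbedding.injective disjoint_compl_right, ?_, ?_, ?_⟩
  · rw [← Set.image_union, Set.union_compl_self, Set.image_univ, hr]
  · intro z hz
    obtain ⟨x, rfl⟩ := hr.ge (hun.le (Or.inl hz)).1
    exact ⟨x, hPW hz, rfl⟩
  · intro z hz
    obtain ⟨x, rfl⟩ := hr.ge (hun.le (Or.inr hz)).1
    exact ⟨x, Set.disjoint_left.1 hQW hz, rfl⟩

end Groth.Agent.Henz21.GabberClopen
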